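import Mathlib

/-!
# Groups of order 64 with a fixed-point-free automorphism of order 3

Such a group, when non-abelian, has centre of order 4 with elementary abelian quotient, and its
commutator pairing is semilinear for the action of the automorphism.
-/

set_option autoImplicit false

namespace CfsgLib.FpfThree

variable {T : Type*} [Group T] [Finite T]

/-- Norm relation and commutation for a fixed-point-free automorphism of order 3. -/
theorem norm_eq_one (σ : MulAut T) (h3 : ∀ t, σ (σ (σ t)) = t) (hfp : ∀ y, σ y = y → y = 1)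
    (t : T) : t * σ t * σ (σ t) = 1 ∧ Commute t (σ t) := by
  have surj : ∀ τ : MulAut T, (∀ y, τ y = y → y = 1) → ∀ y, ∃ s, s⁻¹ * τ s = y := by
    intro τ hτ
    refine Finite.surjective_of_injective fun a b hab => ?_
    have h1 : τ (b * a⁻¹) = b * a⁻¹ := by
      change a⁻¹ * τ a = b⁻¹ * τ b at hab
      rw [map_mul, map_inv]
      calc τ b * (τ a)⁻¹ = b * (b⁻¹ * τ b) * (τ a)⁻¹ := by group
        _ = b * (a⁻¹ * τ a) * (τ a)⁻¹ := by rw [hab]
        _ = b * a⁻¹ := by group
    exact (mul_inv_eq_one.1 (hτ _ h1)).symm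
  have hA : ∀ y, y * σ y * σ (σ y) = 1 := by
    intro y
    obtain ⟨s, rfl⟩ := surj σ hfp y
    simp only [map_mul, map_inv, h3]
    group
  have hB : ∀ y, y * σ (σ y) * σ y = 1 := by
    intro y
    obtain ⟨s, hs⟩ := surj (σ * σ) (fun z hz => hfp z (by
      rw [MulAut.mul_apply] at hz
      conv_rhs => rw [← h3 z]
      exact congrArg σ hz.symm)) y
    rw [← hs]
    simp only [MulAut.mul_apply, map_mul, map_inv, h3]
    group
  refine ⟨hA t, ?_⟩
  have h1 : t * σ t = (σ (σ t))⁻¹ := eq_inv_of_mul_eq_one_left (hA t)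
  have h2 : σ t * t = (σ (σ t))⁻¹ := by
    have h := hB (σ t)
    rw [h3] at h
    exact eq_inv_of_mul_eq_one_left h
  exact h1.trans h2.symm

/-- Invariant subgroups have order congruent to 1 modulo 3. -/
theorem card_mod_three (σ : MulAut T) (h3 : ∀ t, σ (σ (σ t)) = t) (hfp : ∀ y, σ y = y → y = 1)
    (H : Subgroup T) (hH : ∀ t ∈ H, σ t ∈ H) : Nat.card H % 3 = 1 := by
  classical
  haveI : Fintype H := Fintype.ofFinite _
  haveI : Fact (Nat.Prime 3) := ⟨Nat.prime_three⟩
  let π : Equiv.Perm H :=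
    ⟨fun t => ⟨σ t, hH t t.2⟩, fun t => ⟨σ (σ t), hH _ (hH t t.2)⟩,
      fun t => Subtype.ext (h3 _), fun t => Subtype.ext (h3 _)⟩
  have hπ : π ^ 3 ^ 1 = 1 := by
    refine Equiv.ext fun t => Subtype.ext ?_
    simp [pow_succ, π, h3]
  have hone : π.supportᶜ = {1} := by
    ext t
    simp only [Finset.mem_compl, Equiv.Perm.notMem_support, Finset.mem_singleton]
    refine ⟨fun h => Subtype.ext (hfp _ (congrArg Subtype.val h)), fun h => ?_⟩
    subst h
    exact Subtype.ext (map_one σ)
  have h := Equiv.Perm.card_compl_support_modEq hπ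
  rw [hone, Finset.card_singleton] at h
  rw [Nat.card_eq_fintype_card]
  exact h.symm

/-- The subgroup generated by the centre, `a` and `σ a`. -/
def hull (σ : MulAut T) (a : T) : Subgroup T :=
  Subgroup.closure ((Subgroup.center T : Set T) ∪ {a, σ a})

/-- Everything we need about a non-abelian group of order 64 with such an automorphism. -/
theorem structure_sixtyfour (hT : Nat.card T = 64) (hna : ¬ IsMulCommutative T) (σ : MulAut T)
    (h3 : ∀ t, σ (σ (σ t)) = t) (hfp : ∀ y, σ y = y → y = 1) :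
    (∀ t : T, t * t ∈ Subgroup.center T) ∧
    (∀ z ∈ Subgroup.center T, z * z = 1) ∧
    (∀ z ∈ Subgroup.center T, z ≠ 1 → ∀ y ∈ Subgroup.center T,
      y = 1 ∨ y = z ∨ y = σ z ∨ y = σ (σ z)) ∧
    (∀ a b : T, a ∉ Subgroup.center T → a * b = b * a →
      ∃ z ∈ Subgroup.center T, b = z ∨ b = a * z ∨ b = σ a * z ∨ b = σ (σ a) * z) ∧
    (∀ a : T, a ∉ Subgroup.center T → σ a * a⁻¹ ∉ Subgroup.center T) := by
  classical
  set Z := Subgroup.center T with hZ
  haveI : Fintype T := Fintype.ofFinite _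
  have hcomm : ∀ t, Commute t (σ t) := fun t => (norm_eq_one σ h3 hfp t).2
  have hnorm : ∀ t, t * σ t * σ (σ t) = 1 := fun t => (norm_eq_one σ h3 hfp t).1
  have hσZ : ∀ z ∈ Z, σ z ∈ Z := by
    intro z hz
    rw [hZ, Subgroup.mem_center_iff] at hz ⊢
    intro g
    have h1 := congrArg σ (hz (σ (σ g)))
    rwa [map_mul, map_mul, h3] at h1
  have h64 : ∀ t : T, t ^ 64 = 1 := fun t => hT ▸ pow_card_eq_one'
  have hthree : ∀ (t : T), t ^ 3 ∈ Z → t ∈ Z := by
    intro t ht
    have := Subgroup.pow_mem Z ht 43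
    rwa [← pow_mul, show 3 * 43 = 64 + (64 + 1) from rfl, pow_add, pow_add, h64, one_mul, one_mul,
      pow_one] at this
  have hseven : ∀ (t : T), t ^ 7 ∈ Z → t ∈ Z := by
    intro t ht
    have := Subgroup.pow_mem Z ht 55
    rwa [← pow_mul, show 7 * 55 = 64 * 6 + 1 from rfl, pow_add, pow_mul, h64, one_pow, one_mul,
      pow_one] at this
  have hzc : ∀ z ∈ Z, ∀ t : T, z * t = t * z := fun z hz t =>
    ((Subgroup.mem_center_iff.1 hz) t).symm
  let φ := QuotientGroup.mk' Z
  have hφ : ∀ t, φ t = 1 ↔ t ∈ Z := fun t => QuotientGroup.eq_one_iff t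
  have hdist : ∀ a, a ∉ Z → σ a * a⁻¹ ∉ Z := by
    intro a ha hmem
    have h1 : φ (σ a) = φ a := by
      rw [← mul_inv_eq_one, ← map_inv, ← map_mul, hφ]; exact hmem
    have h2 : φ (σ (σ a)) = φ a := by
      rw [← h1, ← mul_inv_eq_one, ← map_inv, ← map_mul, hφ, ← map_inv, ← map_mul]
      exact hσZ _ hmem
    have h4 := congrArg φ (hnorm a)
    rw [map_mul, map_mul, map_one, h1, h2] at h4
    exact ha (hthree a ((hφ _).1 (by rw [map_pow, pow_three', h4])))
  have hsub : ∀ H : Subgroup T, (∀ t ∈ H, σ t ∈ H) →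
      Nat.card H = 1 ∨ Nat.card H = 4 ∨ Nat.card H = 16 ∨ Nat.card H = 64 := by
    intro H hH
    obtain ⟨n, hn, hn'⟩ := (Nat.dvd_prime_pow Nat.prime_two).1
      (show Nat.card H ∣ 2 ^ 6 by rw [show (2 : ℕ) ^ 6 = 64 from rfl, ← hT]; exact H.card_subgroup_dvd_card)
    have h := card_mod_three σ h3 hfp H hH
    rw [hn'] at h ⊢
    interval_cases n <;> simp_all
  have htop : ∀ H : Subgroup T, Nat.card H = 64 → ∀ t, t ∈ H := fun H h t => by
    rw [Subgroup.eq_top_of_card_eq H (h.trans hT.symm)]; exact Subgroup.mem_top t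
  have hhull_comm : ∀ a, ∀ u ∈ hull σ a, ∀ v ∈ hull σ a, u * v = v * u := by
    intro a
    have hgen : ∀ u ∈ (Z : Set T) ∪ {a, σ a}, ∀ v ∈ (Z : Set T) ∪ {a, σ a}, u * v = v * u := by
      intro u hu v hv
      rcases hu with hu | hu
      · exact hzc u hu v
      rcases hv with hv | hv
      · exact (hzc v hv u).symm
      rcases hu with rfl | rfl <;> rcases hv with rfl | rfl
      exacts [rfl, (hcomm _).eq, (hcomm _).eq.symm, rfl]
    intro u hu v hv
    have : IsMulCommutative (hull σ a) := Subgroup.isMulCommutative_closure hgen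
    exact congrArg Subtype.val (this.is_comm.comm ⟨u, hu⟩ ⟨v, hv⟩)
  have hmemZ : ∀ a, ∀ z ∈ Z, z ∈ hull σ a := fun a z hz => Subgroup.subset_closure (Or.inl hz)
  have hmema : ∀ a, a ∈ hull σ a := fun a => Subgroup.subset_closure (Or.inr (Or.inl rfl))
  have hmemb : ∀ a, σ a ∈ hull σ a := fun a => Subgroup.subset_closure (Or.inr (Or.inr rfl))
  have hmemc : ∀ a, σ (σ a) ∈ hull σ a := fun a => by
    rw [eq_inv_of_mul_eq_one_right (hnorm a)]
    exact inv_mem (mul_mem (hmema a) (hmemb a))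
  have hinvar : ∀ a, ∀ t ∈ hull σ a, σ t ∈ hull σ a := by
    intro a t ht
    have : hull σ a ≤ (hull σ a).comap σ.toMonoidHom := by
      rw [hull, Subgroup.closure_le]
      rintro u (hu | hu | hu)
      · exact hmemZ a _ (hσZ u hu)
      · rw [hu]; exact hmemb _
      · rw [Set.mem_singleton_iff.1 hu]; exact hmemc a
    exact this ht
  let emb : ∀ a, Fin 4 × Z → hull σ a := fun a p =>
    ⟨![1, a, σ a, σ (σ a)] p.1 * (p.2 : T), mul_mem (by
      obtain ⟨i, z⟩ := p
      fin_cases i
      exacts [one_mem _, hmema a, hmemb a, hmemc a]) (hmemZ a _ p.2.2)⟩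
  have hemb : ∀ a, a ∉ Z → Function.Injective (emb a) := by
    intro a ha
    have hb : σ a ∉ Z := fun h => ha (by
      have := hσZ _ (hσZ _ h); rwa [h3] at this)
    have hc : σ (σ a) ∉ Z := fun h => ha (by
      have := hσZ _ h; rwa [h3] at this)
    have hab := hdist a ha
    have hbc := hdist (σ a) hb
    have hca := hdist (σ (σ a)) hc
    rw [h3] at hca
    have hdiff : ∀ i j : Fin 4, i ≠ j →
        ![1, a, σ a, σ (σ a)] i * (![1, a, σ a, σ (σ a)] j)⁻¹ ∉ Z := by
      intro i j hij h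
      have h' := inv_mem h
      rw [mul_inv_rev, inv_inv] at h'
      fin_cases i <;> fin_cases j <;> simp at h h' hij <;>
        first
        | exact ha h | exact ha h' | exact hb h | exact hb h' | exact hc h | exact hc h'
        | exact hab h | exact hab h' | exact hbc h | exact hbc h' | exact hca h | exact hca h'
    rintro ⟨i, z⟩ ⟨j, y⟩ h
    have h1 : ![1, a, σ a, σ (σ a)] i * (z : T) = ![1, a, σ a, σ (σ a)] j * (y : T) :=
      congrArg Subtype.val h
    by_cases hij : i = j
    · subst hij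
      exact Prod.ext rfl (Subtype.ext (mul_left_cancel h1))
    · refine absurd ?_ (hdiff i j hij)
      have h2 : ![1, a, σ a, σ (σ a)] i * (![1, a, σ a, σ (σ a)] j)⁻¹ = (y : T) * (z : T)⁻¹ := by
        rw [eq_mul_inv_of_mul_eq h1, ← hzc y y.2, ← hzc _ (inv_mem z.2)]
        rw [← mul_assoc, mul_inv_cancel_right, hzc _ (inv_mem z.2)]
      rw [h2]
      exact mul_mem y.2 (inv_mem z.2)
  have hcardle : ∀ a, a ∉ Z → 4 * Nat.card Z ≤ Nat.card (hull σ a) := fun a ha => by
    have := Nat.card_le_card_of_injective _ (hemb a ha)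
    simpa [Nat.card_prod] using this
  have hne64 : ∀ a, Nat.card (hull σ a) ≠ 64 := fun a h =>
    hna ⟨⟨fun u v => hhull_comm a u (htop _ h u) v (htop _ h v)⟩⟩
  obtain ⟨a₀, ha₀⟩ : ∃ a, a ∉ Z := by
    by_contra h
    push Not at h
    exact hna ⟨⟨fun u v => hzc u (h u) v⟩⟩
  have hZcard : Nat.card Z = 4 := by
    haveI : Fact (Nat.Prime 2) := ⟨Nat.prime_two⟩
    haveI : Nontrivial T := Finite.one_lt_card_iff_nontrivial.1 (by rw [hT]; norm_num)
    haveI := (IsPGroup.of_card (show Nat.card T = 2 ^ 6 by rw [hT]; rfl)).center_nontrivial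
    have h1 : 1 < Nat.card Z := Finite.one_lt_card_iff_nontrivial.2 ‹_›
    have h2 := hcardle a₀ ha₀
    have h5 := hne64 a₀
    rcases hsub Z hσZ with h | h | h | h <;> rcases hsub _ (hinvar a₀) with h' | h' | h' | h' <;>
      omega
  have hbij : ∀ a, a ∉ Z → Function.Bijective (emb a) := fun a ha => by
    refine (Nat.bijective_iff_injective_and_card _).2 ⟨hemb a ha, ?_⟩
    have h2 := hcardle a ha
    have h5 := hne64 a
    rw [Nat.card_prod, Nat.card_fin]
    rcases hsub _ (hinvar a) with h' | h' | h' | h' <;> omega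
  have hcover : ∀ a, a ∉ Z → ∀ b ∈ hull σ a,
      ∃ z ∈ Z, b = z ∨ b = a * z ∨ b = σ a * z ∨ b = σ (σ a) * z := by
    intro a ha b hb
    obtain ⟨⟨i, z⟩, h⟩ := (hbij a ha).2 ⟨b, hb⟩
    have h1 := congrArg Subtype.val h
    refine ⟨z, z.2, ?_⟩
    fin_cases i <;> simp [emb] at h1 <;> simp [← h1]
  have hsq : ∀ a : T, a * a ∈ Z := by
    intro a
    by_cases ha : a ∈ Z
    · exact mul_mem ha ha
    obtain ⟨z, hz, h⟩ := hcover a ha _ (mul_mem (hmema a) (hmema a))
    rcases h with h | h | h | h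
    · rw [h]; exact hz
    · exact absurd (mul_left_cancel h ▸ hz) ha
    · have h1 : φ (σ a) = φ a * φ a := by
        rw [← map_mul, h, map_mul, (hφ z).2 hz, mul_one]
      have h2 : φ (σ (σ a)) = φ (σ a) * φ (σ a) := by
        rw [← map_mul, ← map_mul σ, h, map_mul σ, map_mul φ, (hφ _).2 (hσZ z hz), mul_one]
      have h4 := congrArg φ (hnorm a)
      rw [map_mul, map_mul, map_one, h2, h1] at h4
      refine absurd (hseven a ((hφ _).1 ?_)) ha
      rw [map_pow, ← h4]
      simp only [pow_succ, pow_zero, one_mul, mul_assoc]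
    · have h2 : φ (σ (σ a)) = φ a * φ a := by
        rw [← map_mul, h, map_mul, (hφ z).2 hz, mul_one]
      have h4 := congrArg φ (hnorm a)
      rw [map_mul, map_mul, map_one, h2] at h4
      have h1 : φ (σ a) = (φ a ^ 3)⁻¹ := by
        rw [eq_inv_mul_of_mul_eq (eq_inv_of_mul_eq_one_left h4)]
        group
      have hw : φ (σ a * a ^ 3) = 1 := by rw [map_mul, map_pow, h1, inv_mul_cancel]
      have h6 := (hφ _).2 (hσZ _ ((hφ _).1 hw))
      rw [map_mul, map_pow, map_mul, map_pow, h2, h1] at h6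
      refine absurd (hseven a ((hφ _).1 ?_)) ha
      rw [map_pow]
      calc φ a ^ 7 = (φ a * φ a * ((φ a ^ 3)⁻¹) ^ 3)⁻¹ := by group
        _ = 1 := by rw [h6, inv_one]
  have hcm : ∀ u v : T, u * v * u⁻¹ * v⁻¹ ∈ Z := by
    intro u v
    have e : u * v * u⁻¹ * v⁻¹ = (u * v) * (u * v) * (v⁻¹ * v⁻¹) * (u⁻¹ * u⁻¹) := by
      have h := hzc _ (hsq u⁻¹) (v⁻¹)
      calc u * v * u⁻¹ * v⁻¹ = u * v * (u * (u⁻¹ * u⁻¹ * v⁻¹)) := by group
        _ = u * v * (u * (v⁻¹ * (u⁻¹ * u⁻¹))) := by rw [h]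
        _ = _ := by group
    rw [e]
    exact mul_mem (mul_mem (hsq _) (hsq _)) (hsq _)
  have hZtwo : ∀ z ∈ Z, z * z = 1 := by
    intro z hz
    by_contra h
    have hzz : z * z ∈ Z := mul_mem hz hz
    haveI : Fintype Z := Fintype.ofFinite _
    have h4 : ∀ y ∈ Z, y ^ 4 = 1 := fun y hy => by
      have := pow_card_eq_one' (x := (⟨y, hy⟩ : Z))
      rw [hZcard] at this
      exact congrArg Subtype.val this
    set y := z * z with hy
    have hy2 : y * y = 1 := by rw [hy, ← h4 z hz, pow_succ, pow_succ, pow_two]; simp only [mul_assoc]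
    have hyne : ∀ w, w ∈ Z → w ≠ 1 → σ w ≠ w := fun w _ hw e => hw (hfp w e)
    -- five distinct central elements
    have hs : ({1, z, y, σ y, σ (σ y)} : Finset T) ⊆ (Finset.univ.filter (· ∈ Z)) := by
      intro w hw
      simp only [Finset.mem_insert, Finset.mem_singleton] at hw
      simp only [Finset.mem_filter, Finset.mem_univ, true_and]
      rcases hw with rfl | rfl | rfl | rfl | rfl
      exacts [one_mem _, hz, hzz, hσZ _ hzz, hσZ _ (hσZ _ hzz)]
    have hc : (Finset.univ.filter (· ∈ Z)).card = 4 := by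
      rw [← hZcard, Nat.card_eq_fintype_card, ← Fintype.card_subtype]
    have h1 := (Finset.card_le_card hs).trans hc.le
    have i1 : y ≠ 1 := h
    have i2 : σ y ≠ 1 := fun e => h (σ.injective (e.trans (map_one σ).symm))
    have i3 : σ (σ y) ≠ 1 := fun e => h ((h3 y).symm.trans (by rw [e, map_one]))
    have i4 : σ y ≠ y := hyne y hzz h
    have i5 : σ (σ y) ≠ σ y := fun e => i4 (σ.injective e)
    have i6 : σ (σ y) ≠ y := fun e => i4 (by
      have := congrArg σ e; rw [h3] at this; exact this.symm)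
    have j : ∀ w, w * w = 1 → z ≠ w := fun w hw e => h (by rw [hy, e, hw])
    have j2 : σ y * σ y = 1 := by rw [← map_mul, hy2, map_one]
    have j3 : σ (σ y) * σ (σ y) = 1 := by rw [← map_mul, j2, map_one]
    have h5 : ({1, z, y, σ y, σ (σ y)} : Finset T).card = 5 := by
      rw [Finset.card_insert_of_notMem, Finset.card_insert_of_notMem,
        Finset.card_insert_of_notMem, Finset.card_insert_of_notMem, Finset.card_singleton] <;>
        simp [j 1 (mul_one 1), j y hy2, j _ j2, j _ j3, i1.symm, i2.symm, i3.symm, i4.symm,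
          i5.symm, i6.symm, (j 1 (mul_one 1)).symm]
    omega
  have hzall : ∀ z ∈ Z, z ≠ 1 → ∀ y ∈ Z, y = 1 ∨ y = z ∨ y = σ z ∨ y = σ (σ z) := by
    intro z hz hz1 y hy
    by_contra h
    push Not at h
    obtain ⟨h0, h1, h2, h4⟩ := h
    have hs : ({1, y, z, σ z, σ (σ z)} : Finset T) ⊆ (Finset.univ.filter (· ∈ Z)) := by
      intro w hw
      simp only [Finset.mem_insert, Finset.mem_singleton] at hw
      simp only [Finset.mem_filter, Finset.mem_univ, true_and]
      rcases hw with rfl | rfl | rfl | rfl | rfl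
      exacts [one_mem _, hy, hz, hσZ _ hz, hσZ _ (hσZ _ hz)]
    have hc : (Finset.univ.filter (· ∈ Z)).card = 4 := by
      haveI : Fintype Z := Fintype.ofFinite _
      rw [← hZcard, Nat.card_eq_fintype_card, ← Fintype.card_subtype]
    have hle := (Finset.card_le_card hs).trans hc.le
    have i2 : σ z ≠ 1 := fun e => hz1 (σ.injective (e.trans (map_one σ).symm))
    have i3 : σ (σ z) ≠ 1 := fun e => i2 (σ.injective (e.trans (map_one σ).symm))
    have i4 : σ z ≠ z := fun e => hz1 (hfp z e)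
    have i5 : σ (σ z) ≠ σ z := fun e => i4 (σ.injective e)
    have i6 : σ (σ z) ≠ z := fun e => i4 (by
      have := congrArg σ e; rw [h3] at this; exact this.symm)
    have h5 : ({1, y, z, σ z, σ (σ z)} : Finset T).card = 5 := by
      rw [Finset.card_insert_of_notMem, Finset.card_insert_of_notMem,
        Finset.card_insert_of_notMem, Finset.card_insert_of_notMem, Finset.card_singleton] <;>
        simp [h0, h1, h2, h4, h0.symm, hz1, hz1.symm, i2.symm, i3.symm, i4.symm, i5.symm, i6.symm]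
    omega
  refine ⟨hsq, hZtwo, hzall, ?_, hdist⟩
  intro a b ha hab
  refine hcover a ha b ?_
  by_contra hb
  -- the centraliser of `a` is invariant and too large
  have hbil : ∀ u v w : T, (u * (v * w) * u⁻¹ * (v * w)⁻¹)
      = (u * v * u⁻¹ * v⁻¹) * (u * w * u⁻¹ * w⁻¹) := by
    intro u v w
    calc u * (v * w) * u⁻¹ * (v * w)⁻¹
        = (u * v * u⁻¹) * ((u * w * u⁻¹ * w⁻¹) * v⁻¹) := by group
      _ = (u * v * u⁻¹) * (v⁻¹ * (u * w * u⁻¹ * w⁻¹)) := by rw [hzc _ (hcm u w) v⁻¹]
      _ = _ := by group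
  have hbil' : ∀ u v w : T, ((u * v) * w * (u * v)⁻¹ * w⁻¹)
      = (u * w * u⁻¹ * w⁻¹) * (v * w * v⁻¹ * w⁻¹) := by
    intro u v w
    calc (u * v) * w * (u * v)⁻¹ * w⁻¹
        = u * (v * w * v⁻¹ * w⁻¹) * (w * u⁻¹ * w⁻¹) := by group
      _ = (v * w * v⁻¹ * w⁻¹) * u * (w * u⁻¹ * w⁻¹) := by rw [hzc _ (hcm v w) u]
      _ = (v * w * v⁻¹ * w⁻¹) * (u * w * u⁻¹ * w⁻¹) := by group
      _ = _ := hzc _ (hcm v w) _
  have hself : ∀ u : T, u * σ u * u⁻¹ * (σ u)⁻¹ = 1 := fun u => by rw [(hcomm u).eq]; group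
  have hswap : ∀ u v : T, (u * σ v * u⁻¹ * (σ v)⁻¹) * (v * σ u * v⁻¹ * (σ u)⁻¹) = 1 := by
    intro u v
    have h := hself (u * v)
    rw [map_mul, hbil', hbil, hbil, hself, hself, one_mul, mul_one] at h
    exact h
  have hinv : ∀ t ∈ Subgroup.centralizer ({a} : Set T), σ t ∈ Subgroup.centralizer ({a} : Set T) := by
    intro t ht
    rw [Subgroup.mem_centralizer_singleton_iff] at ht ⊢
    have hat : a * t = t * a := by first | exact ht | exact ht.symm
    have hat' : σ a * σ t = σ t * σ a := by rw [← map_mul, ← map_mul, hat]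
    have hσta : t * σ a = σ a * t := by
      have h := hswap t (σ (σ a))
      rw [h3] at h
      have e1 : t * a * t⁻¹ * a⁻¹ = 1 := by rw [← hat]; group
      rw [e1, one_mul] at h
      have e2 : σ (σ (σ a) * σ t * (σ (σ a))⁻¹ * (σ t)⁻¹) = 1 := by rw [h, map_one]
      rw [map_mul, map_mul, map_mul, map_inv, map_inv, h3] at e2
      have e3 : a * σ (σ t) = σ (σ t) * a := by
        have := mul_inv_eq_one.1 e2
        rwa [mul_inv_eq_iff_eq_mul] at this
      have e4 := congrArg σ e3
      rw [map_mul, map_mul, h3] at e4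
      exact e4.symm
    have h := hswap a t
    rw [show t * σ a * t⁻¹ * (σ a)⁻¹ = 1 by rw [hσta]; group, mul_one, mul_inv_eq_one,
      mul_inv_eq_iff_eq_mul] at h
    first | exact h | exact h.symm
  have hca : hull σ a ≤ Subgroup.centralizer ({a} : Set T) := fun u hu => by
    rw [Subgroup.mem_centralizer_singleton_iff]
    first | exact hhull_comm a u hu a (hmema a) | exact hhull_comm a a (hmema a) u hu
  have hlt : Nat.card (hull σ a) < Nat.card (Subgroup.centralizer ({a} : Set T)) := by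
    have hlt' : hull σ a < Subgroup.centralizer ({a} : Set T) :=
      lt_of_le_of_ne hca fun e => hb (e ▸ (by
        rw [Subgroup.mem_centralizer_singleton_iff]
        first | exact hab | exact hab.symm))
    exact Set.ncard_lt_ncard hlt'
  have h16 : Nat.card (hull σ a) = 16 := by
    rw [← Nat.card_eq_of_bijective _ (hbij a ha), Nat.card_prod, Nat.card_fin, hZcard]
  rcases hsub _ hinv with h | h | h | h
  all_goals try omega
  refine ha (Subgroup.mem_center_iff.2 fun g => ?_)
  have := Subgroup.mem_centralizer_singleton_iff.1 (htop _ h g)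
  first | exact this | exact this.symm

end CfsgLib.FpfThree
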